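import Groth.Agent.Lib.RG6.ContentMain
import Mathlib

/-!
# Flat local algebras over valuation rings whose closed fibre is a domain
-/

set_option autoImplicit false
set_option linter.all false

universe u

open IsLocalRing

namespace GrothLib.TrivVal4

variable {A B : Type u} [CommRing A] [IsDomain A] [ValuationRing A] [CommRing B] [IsLocalRing B]
  [Algebra A B] [IsLocalHom (algebraMap A B)] [Algebra.EssFiniteType A B] [Module.Flat A B]
  [((maximalIdeal A).map (algebraMap A B)).IsPrime]

/-- Every element is a scalar times an element outside the special fibre ideal. -/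
theorem exists_content (b : B) : ∃ (a : A) (y : B),
    b = algebraMap A B a * y ∧ (a = 0 ∨ y ∉ (maximalIdeal A).map (algebraMap A B)) := by
  obtain ⟨a, y, h, h'⟩ := RG6.hasContent_essFiniteType (A := A) (B := B) B b
  refine ⟨a, y, by rw [h, Algebra.smul_def], h'.imp id fun hy hy' => hy ?_⟩
  rw [Ideal.smul_top_eq_map]
  exact hy'

theorem algebraMap_mul_cancel {a : A} (ha : a ≠ 0) {u v : B}
    (h : algebraMap A B a * u = algebraMap A B a * v) : u = v :=
  RG6.smul_cancel_of_flat (A := A) (X := B) ha (by rwa [Algebra.smul_def, Algebra.smul_def])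

theorem isDomain (A B : Type u) [CommRing A] [IsDomain A] [ValuationRing A] [CommRing B] [IsLocalRing B]
    [Algebra A B] [IsLocalHom (algebraMap A B)] [Algebra.EssFiniteType A B] [Module.Flat A B]
    [((maximalIdeal A).map (algebraMap A B)).IsPrime] : IsDomain B := by
  let P := (maximalIdeal A).map (algebraMap A B)
  haveI hP : P.IsPrime := ‹_›
  haveI : NoZeroDivisors B := ⟨fun {b c} h => by
    obtain ⟨a, y, rfl, hy⟩ := exists_content (A := A) b
    obtain ⟨a', y', rfl, hy'⟩ := exists_content (A := A) c
    by_cases ha : a = 0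
    · exact .inl (by rw [ha, map_zero, zero_mul])
    by_cases ha' : a' = 0
    · exact .inr (by rw [ha', map_zero, zero_mul])
    exfalso
    have h' : algebraMap A B (a * a') * (y * y') = algebraMap A B (a * a') * 0 := by
      rw [mul_zero, map_mul, ← h]; ring
    have h0 := algebraMap_mul_cancel (mul_ne_zero ha ha') h'
    exact (hP.mem_or_mem (show y * y' ∈ P by rw [h0]; exact P.zero_mem)).elim
      (hy.resolve_left ha) (hy'.resolve_left ha')⟩
  exact NoZeroDivisors.to_isDomain B

/-- A divisor of a nonzero scalar is a scalar times a unit. -/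
theorem exists_associated {r q : B} {a : A} (ha : a ≠ 0) (h : r * q = algebraMap A B a) :
    ∃ c : A, Associated (algebraMap A B c) r := by
  let P := (maximalIdeal A).map (algebraMap A B)
  haveI hP : P.IsPrime := ‹_›
  obtain ⟨c, y, hr, hy⟩ := exists_content (A := A) r
  obtain ⟨d, z, hq, hz⟩ := exists_content (A := A) q
  have key : algebraMap A B (c * d) * (y * z) = algebraMap A B a := by rw [← h, hr, hq, map_mul]; ring
  have hc : c ≠ 0 := fun h0 => ha (by
    refine (FaithfulSMul.algebraMap_injective A B : Function.Injective _) ?_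
    rw [map_zero, ← key, h0, zero_mul, map_zero, zero_mul])
  have hd : d ≠ 0 := fun h0 => ha (by
    refine (FaithfulSMul.algebraMap_injective A B : Function.Injective _) ?_
    rw [map_zero, ← key, h0, mul_zero, map_zero, zero_mul])
  have hyz : y * z ∉ P := fun hh => (hP.mem_or_mem hh).elim (hy.resolve_left hc) (hz.resolve_left hd)
  refine ⟨c, ?_⟩
  suffices IsUnit y from ⟨this.unit, by rw [IsUnit.unit_spec, hr]⟩
  rcases ValuationRing.dvd_total a (c * d) with ⟨e, he⟩ | ⟨e, he⟩
  · have h1 := algebraMap_mul_cancel (B := B) ha (u := algebraMap A B e * (y * z)) (v := 1)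
      (by rw [mul_one, ← mul_assoc, ← map_mul, ← he, key])
    exact isUnit_of_mul_isUnit_left (isUnit_of_mul_isUnit_right (x := algebraMap A B e) (IsUnit.of_mul_eq_one (1 : B) (by rw [h1, mul_one])))
  · have h1 := algebraMap_mul_cancel (B := B) (mul_ne_zero hc hd) (u := y * z) (v := algebraMap A B e)
      (by rw [key, he, map_mul])
    have he' : IsUnit e := notMem_maximalIdeal.1 fun hm => hyz (h1 ▸ Ideal.mem_map_of_mem _ hm)
    have hu : IsUnit (y * z) := h1 ▸ he'.map (algebraMap A B)
    exact isUnit_of_mul_isUnit_left hu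

end GrothLib.TrivVal4
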