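import Groth.Agent.Lib.TrivVal4.Alg
import Groth.Agent.Lib.PicPull.Main
import Groth.Agent.Lib.Ample.CocTensor
import Groth.Agent.Lib.FibreFlat.Stalk
import Groth.Agent.S0438
import Mathlib

/-!
# Invertible modules over proper flat schemes over a valuation ring, trivial on the generic fibre
-/

set_option autoImplicit false
set_option linter.all false
set_option backward.isDefEq.respectTransparency false

universe u

open CategoryTheory CategoryTheory.Limits AlgebraicGeometry TopologicalSpace Opposite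
open GrothLib.Ample (res Cocycle res_res res_self)
open GrothLib.InvExt (toK IsUnitAt IsGen mres fres toK_fres toK_injective)
open GrothLib.PicPull

noncomputable section

namespace GrothLib.TrivVal4


section

variable {A : Type u} [CommRing A] [IsDomain A] [ValuationRing A]
  {X : Scheme.{u}} (φ : X ⟶ Spec (CommRingCat.of A))

/-- The base ring maps to each stalk. -/
def ρ (x : X) : A →+* X.presheaf.stalk x :=
  (φ.stalkMap x).hom.comp
    (((Spec (CommRingCat.of A)).presheaf.germ ⊤ (φ x) trivial).hom.comp (Scheme.ΓSpecIso (CommRingCat.of A)).inv.hom)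

theorem bijective_toStalk {y : Spec (CommRingCat.of A)} (hy : y = IsLocalRing.closedPoint A) :
    Function.Bijective (((Spec (CommRingCat.of A)).presheaf.germ ⊤ y trivial).hom.comp
      (Scheme.ΓSpecIso (CommRingCat.of A)).inv.hom) := by
  subst hy
  letI : Algebra A ((Spec (CommRingCat.of A)).presheaf.stalk (IsLocalRing.closedPoint A)) :=
    StructureSheaf.stalkAlgebra A (IsLocalRing.closedPoint A)
  haveI : IsLocalization.AtPrime ((Spec (CommRingCat.of A)).presheaf.stalk (IsLocalRing.closedPoint A))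
      (IsLocalRing.maximalIdeal A) := StructureSheaf.IsLocalization.to_stalk A (IsLocalRing.closedPoint A)
  exact (IsLocalization.atUnits A (IsLocalRing.maximalIdeal A).primeCompl
    (S := (Spec (CommRingCat.of A)).presheaf.stalk (IsLocalRing.closedPoint A))
    (fun a ha => IsLocalRing.notMem_maximalIdeal.1 ha)).bijective

theorem ρ_eq {V : X.Opens} {x : X} (hx : x ∈ V) :
    ρ φ x = (X.presheaf.germ V x hx).hom.comp
      ((φ.appLE ⊤ V le_top).hom.comp (Scheme.ΓSpecIso (CommRingCat.of A)).inv.hom) := by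
  ext a
  simp only [ρ, RingHom.comp_apply]
  rw [← CommRingCat.comp_apply, Scheme.Hom.germ_stalkMap, CommRingCat.comp_apply, Scheme.Hom.appLE,
    CommRingCat.comp_apply]
  exact (TopCat.Presheaf.germ_res_apply X.presheaf _ _ _ _).symm

variable [Flat φ] [LocallyOfFiniteType φ]
  [hF0 : IsIntegral (φ.fiber (IsLocalRing.closedPoint A))]

include hF0 in
theorem data {x : X} (hx : φ x = IsLocalRing.closedPoint A) :
    letI := (ρ φ x).toAlgebra
    IsLocalHom (algebraMap A (X.presheaf.stalk x)) ∧ Algebra.EssFiniteType A (X.presheaf.stalk x) ∧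
      Module.Flat A (X.presheaf.stalk x) ∧
      ((IsLocalRing.maximalIdeal A).map (algebraMap A (X.presheaf.stalk x))).IsPrime := by
  letI := (ρ φ x).toAlgebra
  have hbij := bijective_toStalk hx
  let e : A ≃+* (Spec (CommRingCat.of A)).presheaf.stalk (φ x) := RingEquiv.ofBijective _ hbij
  have hρ : algebraMap A (X.presheaf.stalk x) = (φ.stalkMap x).hom.comp e.toRingHom := rfl
  haveI hloc : IsLocalHom (φ.stalkMap x).hom := φ.toLRSHom.prop x
  refine ⟨⟨fun a ha => ?_⟩, ?_, ?_, ?_⟩
  · exact (MulEquiv.isUnit_map e.toMulEquiv).1 (isUnit_of_map_unit (φ.stalkMap x).hom _ ha)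
  · obtain ⟨_, ⟨V, hV, rfl⟩, hxV, -⟩ :=
      X.isBasis_affineOpens.exists_subset_of_mem_open (Set.mem_univ x) isOpen_univ
    letI : Algebra A Γ(X, V) := ((φ.appLE ⊤ V le_top).hom.comp (Scheme.ΓSpecIso (CommRingCat.of A)).inv.hom).toAlgebra
    letI := X.presheaf.algebra_section_stalk ⟨x, hxV⟩
    haveI := hV.isLocalization_stalk ⟨x, hxV⟩
    haveI : IsScalarTower A Γ(X, V) (X.presheaf.stalk x) :=
      IsScalarTower.of_algebraMap_eq fun a => congrArg (fun f => f a) (ρ_eq φ hxV)
    haveI : Algebra.FiniteType A Γ(X, V) :=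
      (LocallyOfFiniteType.finiteType_appLE φ (isAffineOpen_top _) hV le_top).comp
        (RingHom.FiniteType.of_surjective _
          (ConcreteCategory.bijective_of_isIso (Scheme.ΓSpecIso (CommRingCat.of A)).inv).2)
    haveI : Algebra.EssFiniteType Γ(X, V) (X.presheaf.stalk x) :=
      Algebra.EssFiniteType.of_isLocalization _ (hV.primeIdealOf ⟨x, hxV⟩).asIdeal.primeCompl
    exact Algebra.EssFiniteType.comp A Γ(X, V) (X.presheaf.stalk x)
  · exact RingHom.Flat.comp (RingHom.Flat.of_bijective hbij) (Flat.stalkMap φ x)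
  · obtain ⟨w, hw⟩ : x ∈ Set.range (φ.fiberι (IsLocalRing.closedPoint A)) := by
      rw [Scheme.Hom.range_fiberι]; exact hx
    obtain ⟨hsurj, hker⟩ := GrothLib.FibreFlat.fiberι_stalkMap' φ _ w x hw
    have hmax : (IsLocalRing.maximalIdeal A).map e.toRingHom =
        IsLocalRing.maximalIdeal ((Spec (CommRingCat.of A)).presheaf.stalk (φ x)) :=
      IsLocalRing.eq_maximalIdeal (Ideal.map_isMaximal_of_equiv e)
    rw [hρ, ← Ideal.map_map, hmax, ← hker]
    exact RingHom.ker_isPrime _

include hF0 in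
theorem isDomain_stalk {x : X} (hx : φ x = IsLocalRing.closedPoint A) : IsDomain (X.presheaf.stalk x) := by
  letI := (ρ φ x).toAlgebra
  obtain ⟨h1, h2, h3, h4⟩ := data φ hx
  exact isDomain A (X.presheaf.stalk x)

omit [Flat φ] [LocallyOfFiniteType φ] hF0 in
theorem exists_specializes [IsProper φ] (z : X) :
    ∃ x, z ⤳ x ∧ φ x = IsLocalRing.closedPoint A := by
  have h : IsClosed (φ '' closure ({z} : Set X)) := φ.isClosedMap _ isClosed_closure
  obtain ⟨x, hx, hxs⟩ := (IsLocalRing.specializes_closedPoint (φ z : PrimeSpectrum A)).mem_closed h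
    ⟨z, subset_closure rfl, rfl⟩
  exact ⟨x, specializes_iff_mem_closure.2 hx, hxs⟩

include hF0 in
theorem exists_central :
    ∃ η₀ : X, φ η₀ = IsLocalRing.closedPoint A ∧ ∀ x : X, φ x = IsLocalRing.closedPoint A → η₀ ⤳ x := by
  let F := φ.fiber (IsLocalRing.closedPoint A)
  let ι := φ.fiberι (IsLocalRing.closedPoint A)
  refine ⟨ι (genericPoint F), ?_, fun x hx => ?_⟩
  · have := Set.mem_range_self (f := ι) (genericPoint F)
    rw [Scheme.Hom.range_fiberι] at this
    exact this
  · obtain ⟨w, rfl⟩ : x ∈ Set.range ι := by rw [Scheme.Hom.range_fiberι]; exact hx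
    exact (genericPoint_specializes w).map ι.continuous

include hF0 in
theorem isIntegral_total [IsProper φ] : IsIntegral X := by
  obtain ⟨η₀, hη₀, hgen₀⟩ := exists_central φ
  have hgx : ∀ x : X, φ x = IsLocalRing.closedPoint A → ∃ ξ : X, ξ ⤳ x ∧ ∀ y : X, y ⤳ x → ξ ⤳ y := by
    intro x hx
    haveI := isDomain_stalk φ hx
    let b : Spec (X.presheaf.stalk x) := (⟨⊥, Ideal.isPrime_bot⟩ : PrimeSpectrum _)
    refine ⟨X.fromSpecStalk x b, ?_, fun y hy => ?_⟩
    · exact (Scheme.range_fromSpecStalk (X := X) (x := x)).le ⟨b, rfl⟩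
    · obtain ⟨q, rfl⟩ := (Scheme.range_fromSpecStalk (X := X) (x := x)).ge hy
      exact ((PrimeSpectrum.le_iff_specializes _ _).1
        (show (⟨⊥, Ideal.isPrime_bot⟩ : PrimeSpectrum _) ≤ q from bot_le)).map (X.fromSpecStalk x).continuous
  obtain ⟨ξ, hξ, hξgen⟩ := hgx η₀ hη₀
  have hdense : ∀ z : X, ξ ⤳ z := fun z => by
    obtain ⟨x, hzx, hx⟩ := exists_specializes φ z
    obtain ⟨ξ', hξ', hξ'gen⟩ := hgx x hx
    have h1 : ξ' ⤳ ξ := hξ'gen ξ (hξ.trans (hgen₀ x hx))
    exact (hξgen ξ' (h1.trans hξ)).trans (hξ'gen z hzx)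
  haveI : IrreducibleSpace X := by
    rw [irreducibleSpace_def]
    have h : closure ({ξ} : Set X) = Set.univ :=
      Set.eq_univ_of_forall fun x => specializes_iff_mem_closure.1 (hdense x)
    simpa only [h] using! (isIrreducible_singleton (x := ξ)).closure
  haveI : IsReduced X := (Groth.Agent.S0438.result φ inferInstance).1
  exact isIntegral_of_irreducibleSpace_of_isReduced X

end

section

variable {X Y : Scheme.{u}} [IsIntegral Y] [IsIntegral X] (φ : X ⟶ Y) [Flat φ]

theorem genericPoint_map' : φ (genericPoint X) = genericPoint Y := by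
  obtain ⟨z, hz, hφz⟩ := Flat.generalizingMap φ (genericPoint_specializes (φ (genericPoint X)))
  rw [← hφz, (hz.antisymm (genericPoint_specializes z)).eq]

theorem isIntegral_genericFibre : IsIntegral (φ.fiber (genericPoint Y)) := by
  let F := φ.fiber (genericPoint Y)
  let ι := φ.fiberι (genericPoint Y)
  obtain ⟨w, hw⟩ : genericPoint X ∈ Set.range ι := by
    rw [Scheme.Hom.range_fiberι]; exact genericPoint_map' φ
  haveI : IrreducibleSpace F := by
    have hdense : closure ({w} : Set F) = Set.univ :=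
      Set.eq_univ_of_forall fun v => specializes_iff_mem_closure.1
        (ι.isEmbedding.isInducing.specializes_iff.1 (hw ▸ genericPoint_specializes (ι v)))
    rw [irreducibleSpace_def]
    simpa only [hdense] using! (isIrreducible_singleton (x := w)).closure
  haveI : IsReduced F := by
    haveI : ∀ v, _root_.IsReduced (F.presheaf.stalk v) := fun v => by
      haveI := isIso_stalkMap_fiberι φ v
      exact isReduced_of_injective (asIso (ι.stalkMap v)).commRingCatIsoToRingEquiv.symm (RingEquiv.injective _)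
    exact isReduced_of_isReduced_stalk F
  exact isIntegral_of_irreducibleSpace_of_isReduced F

end

/-- A cocycle which is trivial on the generic fibre, as rational functions on the charts. -/
theorem exists_rational {X Y : Scheme.{u}} [IsIntegral Y] [IsIntegral X] (φ : X ⟶ Y) [Flat φ]
    [IsIntegral (φ.fiber (genericPoint Y))] (hη : φ (genericPoint X) = genericPoint Y) (c : Cocycle X)
    (hgen : Nonempty ((Scheme.Modules.pullback (φ.fiberι (genericPoint Y))).obj (c.twist 1) ≅
      Coh.structureModule (φ.fiber (genericPoint Y)))) :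
    ∃ f : c.ι → X.functionField,
      (∀ (i j : c.ι) (W : X.Opens) (hi : W ≤ c.D i) (hj : W ≤ c.D j) (z : X) (hz : z ∈ W),
        f i = toK z hz (c.G i j hi hj) * f j) ∧
      ∀ (i : c.ι) (z : X), z ∈ c.D i → φ z = genericPoint Y → IsUnitAt z (f i) := by
  classical
  let F := φ.fiber (genericPoint Y)
  let ι := φ.fiberι (genericPoint Y)
  haveI : IsIntegral F := ‹_›
  obtain ⟨e0⟩ := hgen
  obtain ⟨e1⟩ := c.nonempty_pullback_twist ι 1
  let e : Coh.structureModule F ≅ (c.comap ι).twist 1 := e0.symm ≪≫ e1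
  obtain ⟨a, ha⟩ := (c.comap ι).exists_hom_eq e.hom
  have hloc : (⊤ : F.Opens) ≤ (c.comap ι).locus a := (c.comap ι).mem_locus_of_surjective a fun W _ => by
    rw [ha]
    exact ((ConcreteCategory.bijective_of_isIso (e.hom.app W)).2)
  let σ := fun z : F =>
    haveI := isIso_stalkMap_fiberι φ z
    (asIso (ι.stalkMap z)).commRingCatIsoToRingEquiv
  let v : ∀ (z : F) (i : c.ι), ι z ∈ c.D i → X.presheaf.stalk (ι z) := fun z i hz =>
    (σ z).symm (F.presheaf.germ (⊤ ⊓ ι ⁻¹ᵁ c.D i) z ⟨trivial, hz⟩ (a.1 i))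
  have hv : ∀ z i hz, (ι.stalkMap z).hom (v z i hz) =
      F.presheaf.germ (⊤ ⊓ ι ⁻¹ᵁ c.D i) z ⟨trivial, hz⟩ (a.1 i) := fun z i hz => (σ z).apply_symm_apply _
  let f : c.ι → X.functionField := fun i =>
    if h : ι (genericPoint F) ∈ c.D i then algebraMap _ X.functionField (v (genericPoint F) i h) else 1
  have hspec : ∀ (z : F) (i : c.ι) (hz : ι z ∈ c.D i),
      f i = algebraMap _ X.functionField (v z i hz) := by
    intro z i hz
    have hs : genericPoint F ⤳ z := genericPoint_specializes z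
    have hsι := hs.map ι.continuous
    have h0 : ι (genericPoint F) ∈ c.D i := hsι.mem_open (c.D i).2 hz
    simp only [f, dif_pos h0]
    rw [← algebraMap_stalkSpecializes hsι (v z i hz)]
    congr 1
    apply (σ (genericPoint F)).injective
    show (ι.stalkMap _).hom _ = (ι.stalkMap _).hom _
    rw [hv (genericPoint F) i h0, ← CommRingCat.comp_apply, Scheme.Hom.stalkSpecializes_stalkMap _ _ _ hs,
      CommRingCat.comp_apply, hv z i hz, ← CommRingCat.comp_apply, TopCat.Presheaf.germ_stalkSpecializes]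
  refine ⟨f, fun i j W hi hj z hz => ?_, fun i z hz hzη => ?_⟩
  · have hξW : ι (genericPoint F) ∈ W := by
      have hW : genericPoint X ∈ W := ((genericPoint_spec X).mem_open_set_iff W.2).mpr ⟨z, trivial, hz⟩
      have hsp : genericPoint X ⤳ ι (genericPoint F) := genericPoint_specializes _
      have hsp' : ι (genericPoint F) ⤳ genericPoint X := by
        obtain ⟨w, hw⟩ : genericPoint X ∈ Set.range ι := by
          rw [Scheme.Hom.range_fiberι]; exact hη
        rw [← hw]
        exact (genericPoint_specializes w).map ι.continuous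
      rwa [(hsp'.antisymm hsp).eq]
    rw [InvExt.toK_congr hz hξW, ← algebraMap_germ hξW, hspec _ i (hi hξW), hspec _ j (hj hξW), ← map_mul]
    congr 1
    apply (σ (genericPoint F)).injective
    show (ι.stalkMap _).hom _ = (ι.stalkMap _).hom _
    rw [map_mul, hv (genericPoint F) i (hi hξW), hv (genericPoint F) j (hj hξW), ← CommRingCat.comp_apply (X.presheaf.germ W _ hξW), Scheme.Hom.germ_stalkMap,
      CommRingCat.comp_apply]
    have hspec2 := (c.comap ι).sect_spec a i j (W := ι ⁻¹ᵁ W)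
      (le_inf le_top (ι.preimage_mono hi)) (le_inf le_top (ι.preimage_mono hj))
    rw [pow_one, ← c.appLE_G ι i j hi hj le_rfl, ← Scheme.Hom.app_eq_appLE] at hspec2
    have := congrArg (F.presheaf.germ (ι ⁻¹ᵁ W) (genericPoint F) hξW) hspec2
    rw [map_mul] at this
    exact (TopCat.Presheaf.germ_res_apply _ _ _ _ _).symm.trans
      (this.trans (congrArg (_ * ·) (TopCat.Presheaf.germ_res_apply _ _ _ _ _)))
  · obtain ⟨w, rfl⟩ : z ∈ Set.range ι := by rw [Scheme.Hom.range_fiberι]; exact hzη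
    rw [hspec w i hz]
    refine InvExt.isUnitAt_of_stalk (u := v w i hz) ?_ rfl
    exact ((Ample.Cocycle.mem_locus_iff_isUnit (c.comap ι) a (i := i) (p := w) hz).1
      (hloc trivial)).map (σ w).symm


section

variable {A : Type u} [CommRing A] [IsDomain A] [ValuationRing A]
  {X : Scheme.{u}} [IsIntegral X] (φ : X ⟶ Spec (CommRingCat.of A)) [Flat φ] [LocallyOfFiniteType φ]
  [hF0 : IsIntegral (φ.fiber (IsLocalRing.closedPoint A))]

include hF0 in
/-- At a point of the closed fibre a trivialisation is a scalar up to a unit. -/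
theorem exists_factor (hη : φ (genericPoint X) = genericPoint (Spec (CommRingCat.of A))) {D : X.Opens}
    {f : X.functionField}
    (hf : ∀ z : X, z ∈ D → φ z = genericPoint (Spec (CommRingCat.of A)) → IsUnitAt z f) {x : X} (hx : x ∈ D)
    (hxs : φ x = IsLocalRing.closedPoint A) :
    ∃ a : (Spec (CommRingCat.of A)).functionField, a ≠ 0 ∧ IsUnitAt x (f * (funMap φ hη a)⁻¹) := by
  let Y := Spec (CommRingCat.of A)
  let V : Y.Opens := ⊤
  have hV : IsAffineOpen V := isAffineOpen_top Y
  have hxV : φ x ∈ V := trivial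
  obtain ⟨U, hU, hxU, hUle⟩ := exists_isAffineOpen_mem_and_subset (x := x) (U := D ⊓ φ ⁻¹ᵁ V) ⟨hx, hxV⟩
  haveI : Nonempty U := ⟨⟨x, hxU⟩⟩
  haveI : Nonempty V := ⟨⟨φ x, hxV⟩⟩
  haveI := functionField_isFractionRing_of_isAffineOpen X U hU
  have hclear : ∀ g : X.functionField, (∀ z : X, z ∈ D → φ z = genericPoint (Spec (CommRingCat.of A)) → IsUnitAt z g) →
      ∃ (s : Γ(Y, V)) (r : Γ(X, U)), s ≠ 0 ∧ funMap φ hη (toK (φ x) hxV s) * g = toK x hxU r := by
    intro g hg
    let J : Ideal Γ(X, U) :=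
      { carrier := {b | ∃ r : Γ(X, U), toK x hxU b * g = toK x hxU r}
        add_mem' := by
          rintro a b ⟨r, hr⟩ ⟨r', hr'⟩
          exact ⟨r + r', by
            show toK x hxU (a + b) * g = _
            rw [toK_add, toK_add, add_mul, hr, hr']⟩
        zero_mem' := ⟨0, by show toK x hxU (0 : Γ(X, U)) * g = _; rw [toK_zero, zero_mul]⟩
        smul_mem' := by
          rintro a b ⟨r, hr⟩
          exact ⟨a * r, by
            show toK x hxU (a * b) * g = _
            rw [toK_mul, toK_mul, mul_assoc, hr]⟩ }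
    obtain ⟨s, hs, r, hr⟩ := exists_ne_zero_mem φ hU hV (le_inf_iff.1 hUle).2 J fun z hz hzη hJ => by
      letI := X.presheaf.algebra_section_stalk ⟨z, hz⟩
      haveI := hU.isLocalization_stalk ⟨z, hz⟩
      obtain ⟨u, hu⟩ := isUnitAt_iff.1 (hg z ((le_inf_iff.1 hUle).1 hz) hzη)
      obtain ⟨⟨r, m⟩, hm⟩ := IsLocalization.surj (hU.primeIdealOf ⟨z, hz⟩).asIdeal.primeCompl (u : X.presheaf.stalk z)
      refine m.2 (hJ ⟨r, ?_⟩)
      rw [← hu, InvExt.toK_congr hxU hz, InvExt.toK_congr hxU hz, ← algebraMap_germ hz, ← algebraMap_germ hz,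
        ← map_mul, mul_comm]
      exact congrArg _ hm
    exact ⟨s, r, hs, by rw [← toK_appLE φ (le_inf_iff.1 hUle).2 hη hxU]; exact hr⟩
  obtain ⟨s, r, hs, hr⟩ := hclear f hf
  obtain ⟨t, q, ht, hq⟩ := hclear f⁻¹ fun z hz hzη => (hf z hz hzη).inv
  have hf0 : f ≠ 0 :=
    (hf _ (((genericPoint_spec X).mem_open_set_iff D.2).mpr ⟨x, trivial, hx⟩) hη).ne_zero
  letI := (ρ φ x).toAlgebra
  obtain ⟨h1, h2, h3, h4⟩ := data φ hxs
  let B := X.presheaf.stalk x
  let st : A := (Scheme.ΓSpecIso (CommRingCat.of A)).hom.hom (s * t)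
  have hinv : (Scheme.ΓSpecIso (CommRingCat.of A)).inv.hom st = s * t :=
    (Scheme.ΓSpecIso (CommRingCat.of A)).commRingCatIsoToRingEquiv.symm_apply_apply (s * t)
  have hst : st ≠ 0 := fun h0 => by
    have h' := congrArg (Scheme.ΓSpecIso (CommRingCat.of A)).inv.hom h0
    rw [hinv, map_zero] at h'
    exact mul_ne_zero hs ht h'
  have hprod : X.presheaf.germ U x hxU r * X.presheaf.germ U x hxU q = algebraMap A B st := by
    refine IsFractionRing.injective B X.functionField ?_
    show _ = algebraMap B X.functionField ((φ.stalkMap x).hom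
      (Y.presheaf.germ V (φ x) hxV ((Scheme.ΓSpecIso (CommRingCat.of A)).inv.hom st)))
    rw [hinv, map_mul, algebraMap_germ, algebraMap_germ, ← funMap_algebraMap φ hη, algebraMap_germ, toK_mul, map_mul,
      ← hr, ← hq]
    field_simp
  obtain ⟨c, u, hu⟩ := exists_associated hst hprod
  let a : Y.presheaf.stalk (φ x) := Y.presheaf.germ V (φ x) hxV ((Scheme.ΓSpecIso (CommRingCat.of A)).inv.hom c)
  have hs' : funMap φ hη (toK (φ x) hxV s) ≠ 0 := (map_ne_zero _).2 fun h0 =>
    hs (toK_injective (φ x) hxV (h0.trans (toK_zero _).symm))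
  have hr' : toK x hxU r ≠ 0 := hr ▸ mul_ne_zero hs' hf0
  have hu' : funMap φ hη (algebraMap (Y.presheaf.stalk (φ x)) Y.functionField a) *
      algebraMap B X.functionField u = toK x hxU r := by
    rw [funMap_algebraMap, ← map_mul, ← algebraMap_germ hxU]
    exact congrArg _ hu
  have ha0 : algebraMap (Y.presheaf.stalk (φ x)) Y.functionField a ≠ 0 := fun h0 =>
    hr' (by rw [← hu', h0, map_zero, zero_mul])
  refine ⟨algebraMap (Y.presheaf.stalk (φ x)) Y.functionField a / toK (φ x) hxV s, div_ne_zero ha0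
    (fun h0 => hs' (by rw [h0, map_zero])), isUnitAt_iff.2 ⟨u, ?_⟩⟩
  rw [map_div₀]
  have ha0' : funMap φ hη (algebraMap (Y.presheaf.stalk (φ x)) Y.functionField a) ≠ 0 := (map_ne_zero _).2 ha0
  field_simp
  linear_combination hu' - hr

include hF0 in
/-- An invertible module trivial on the generic fibre is trivial. -/
theorem nonempty_iso_structureModule [IsProper φ] (L : X.Modules) (hL : PicF.IsInvertible L)
    (hgen : Nonempty ((Scheme.Modules.pullback (φ.fiberι (genericPoint ↥(Spec (CommRingCat.of A))))).obj L ≅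
      Coh.structureModule (φ.fiber (genericPoint ↥(Spec (CommRingCat.of A)))))) :
    Nonempty (L ≅ Coh.structureModule X) := by
  classical
  have hη := genericPoint_map' φ
  haveI := isIntegral_genericFibre φ
  obtain ⟨c, ⟨eL⟩⟩ := Ample.exists_cocycle hL
  obtain ⟨f, hf, hfη⟩ := exists_rational φ hη c
    (hgen.map fun e => (Scheme.Modules.pullback _).mapIso eL.symm ≪≫ e)
  obtain ⟨η₀, hη₀, hgen₀⟩ := exists_central φ
  obtain ⟨i₀, hi₀⟩ := c.exists_mem η₀
  obtain ⟨a, ha0, ha⟩ := exists_factor φ hη (fun z hz => hfη i₀ z hz) hi₀ hη₀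
  let T := (funMap φ hη a)⁻¹
  have hswap : ∀ (i j : c.ι) (z : X), z ∈ c.D i → z ∈ c.D j → IsUnitAt z (f j * T) → IsUnitAt z (f i * T) := by
    intro i j z hi hj hu
    rw [hf i j (c.D i ⊓ c.D j) inf_le_left inf_le_right z ⟨hi, hj⟩, mul_assoc]
    exact (isUnitAt_of_isUnit _ (c.isUnit_G i j _ _)).mul hu
  have hall : ∀ (i : c.ι) (z : X), z ∈ c.D i → IsUnitAt z (f i * T) := by
    intro i z hz
    obtain ⟨x, hzx, hx⟩ := exists_specializes φ z
    obtain ⟨j, hj⟩ := c.exists_mem x
    obtain ⟨b, hb0, hb⟩ := exists_factor φ hη (fun z hz => hfη j z hz) hj hx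
    have hjη : η₀ ∈ c.D j := (hgen₀ x hx).mem_open (c.D j).2 hj
    have h1 : IsUnitAt η₀ (f j * (funMap φ hη b)⁻¹) := hb.generize (hgen₀ x hx)
    have h2 : IsUnitAt η₀ (f j * T) := hswap j i₀ η₀ hjη hi₀ ha
    have hne : f j ≠ 0 := fun h0 => h2.ne_zero (by rw [h0, zero_mul])
    have hA : funMap φ hη a ≠ 0 := (map_ne_zero _).2 ha0
    have hB : funMap φ hη b ≠ 0 := (map_ne_zero _).2 hb0
    have h3 : IsUnitAt η₀ (funMap φ hη (b / a)) := by
      rw [show funMap φ hη (b / a) = f j * T * (f j * (funMap φ hη b)⁻¹)⁻¹ by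
        simp only [T]; rw [map_div₀]; field_simp]
      exact h2.mul h1.inv
    have h4 := isUnitAt_of_funMap φ hη h3
    rw [hη₀, ← hx] at h4
    have h5 : IsUnitAt x (f j * T) := by
      rw [show f j * T = f j * (funMap φ hη b)⁻¹ * funMap φ hη (b / a) by
        simp only [T]; rw [map_div₀]; field_simp]
      exact hb.mul (isUnitAt_funMap φ hη h4)
    exact hswap i j z hz (hzx.mem_open (c.D j).2 hj) (h5.generize hzx)
  have hcomp : ∀ i : c.ι, ∃ s : Γ(X, ⊤ ⊓ c.D i), IsUnit s ∧
      ∀ (z : X) (hz : z ∈ ⊤ ⊓ c.D i), toK z hz s = f i * T := by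
    intro i
    rcases ((⊤ ⊓ c.D i : X.Opens) : Set X).eq_empty_or_nonempty with h | ⟨z, hz⟩
    · exact ⟨1, isUnit_one, fun z hz => absurd (h ▸ hz : z ∈ (∅ : Set X)) (Set.notMem_empty z)⟩
    · obtain ⟨s, hs, hsK⟩ := InvExt.exists_unit_section hz fun w hw => hall i w hw.2
      exact ⟨s, hs, fun w hw => (InvExt.toK_congr _ _ _).trans hsK⟩
  choose sc hscu hscK using hcomp
  let s : c.sect 1 ⊤ := ⟨sc, fun i i' W hi hi' => by
    rcases (W : Set X).eq_empty_or_nonempty with h | ⟨z, hz⟩
    · haveI : Subsingleton Γ(X, W) := by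
        rw [show W = ⊥ from Opens.ext h]; infer_instance
      exact Subsingleton.elim _ _
    · refine toK_injective z hz ?_
      haveI : Nonempty W := ⟨⟨z, hz⟩⟩
      rw [pow_one, toK_mul]
      erw [toK_fres hi z hz, toK_fres hi' z hz]
      rw [hscK, hscK, hf i i' W (hi.trans inf_le_right) (hi'.trans inf_le_right) z hz, mul_assoc]⟩
  have hlocus : c.locus s = ⊤ := top_le_iff.1 fun z _ => by
    obtain ⟨i, hi⟩ := c.exists_mem z
    exact (Ample.Cocycle.mem_locus_iff_isUnit c s (i := i) (p := z) hi).2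
      ((hscu i).map (X.presheaf.germ (⊤ ⊓ c.D i) z ⟨trivial, hi⟩).hom)
  haveI := c.isIso_hom_of_locus_eq_top s hlocus
  exact ⟨eL ≪≫ (asIso (c.hom s)).symm⟩

end

end GrothLib.TrivVal4
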